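import Cfsg.Agent.Lib.Kreknin.Extend
import Mathlib.GroupTheory.Nilpotent
import Mathlib.GroupTheory.Perm.Cycle.Type
import Mathlib.GroupTheory.PGroup
import Mathlib.Algebra.DirectSum.Basic
import Mathlib.GroupTheory.QuotientGroup.Basic

/-!
# The associated Lie ring of a group, and the Higman-Kreknin-Kostrikin bound

`lcs_eq_bot`: a finite nilpotent group with a fixed-point-free automorphism of prime order `p` has class at
most `xi p (2 ^ (p - 1) - 1)`, and at most 2 for `p = 3`.
-/

set_option autoImplicit false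

open scoped DirectSum commutatorElement

namespace Cfsg.Agent.Lib.Kreknin

variable {G : Type*} [Group G]

variable (G) in
/-- `γ_{n+1}(G)`. -/
abbrev gam (n : ℕ) : Subgroup G := (⊤ : Subgroup G).lowerCentralSeries n

theorem three_le (A B C N : Subgroup G) [N.Normal] (h1 : ⁅⁅B, C⁆, A⁆ ≤ N) (h2 : ⁅⁅C, A⁆, B⁆ ≤ N) :
    ⁅⁅A, B⁆, C⁆ ≤ N := by
  have key : ∀ K : Subgroup G, K.map (QuotientGroup.mk' N) = ⊥ ↔ K ≤ N := fun K => by
    rw [Subgroup.map_eq_bot_iff, QuotientGroup.ker_mk']
  rw [← key, Subgroup.map_commutator, Subgroup.map_commutator] at h1 h2 ⊢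
  exact Subgroup.commutator_commutator_eq_bot_of_rotate h1 h2

theorem gam_comm : ∀ b a : ℕ, ⁅gam G a, gam G b⁆ ≤ gam G (a + b + 1)
  | 0, a => le_rfl
  | b + 1, a => by
    rw [Subgroup.commutator_comm]
    refine three_le (gam G b) ⊤ (gam G a) (gam G (a + (b + 1) + 1)) ?_ ?_
    · rw [Subgroup.commutator_comm (⊤ : Subgroup G)]
      refine le_trans (gam_comm b (a + 1)) ?_
      rw [show a + (b + 1) + 1 = a + 1 + b + 1 by omega]
    · refine le_trans (Subgroup.commutator_mono (gam_comm b a) le_rfl) ?_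
      rw [show a + (b + 1) + 1 = a + b + 1 + 1 by omega]
      exact le_rfl

theorem comm_mem {a b : ℕ} {x y : G} (hx : x ∈ gam G a) (hy : y ∈ gam G b) : ⁅x, y⁆ ∈ gam G (a + b + 1) :=
  gam_comm b a (Subgroup.commutator_mem_commutator hx hy)

variable (G) in
/-- The factor `γ_{n+1}/γ_{n+2}`. -/
abbrev Qn (n : ℕ) : Type _ := ↥(gam G n) ⧸ (gam G (n + 1)).subgroupOf (gam G n)

instance qnCommGroup (n : ℕ) : CommGroup (Qn G n) :=
  { (inferInstance : Group (Qn G n)) with
    mul_comm := by
      intro u v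
      induction u using QuotientGroup.induction_on with | _ x =>
      induction v using QuotientGroup.induction_on with | _ y =>
      rw [← QuotientGroup.mk_mul, ← QuotientGroup.mk_mul, QuotientGroup.eq, Subgroup.mem_subgroupOf]
      have h : ((x * y)⁻¹ * (y * x) : gam G n).1 = ⁅(y : G)⁻¹, (x : G)⁻¹⁆ := by
        simp [commutatorElement_def, mul_assoc]
      rw [h]
      exact Subgroup.lowerCentralSeries_antitone ⊤ (by omega : n + 1 ≤ n + n + 1)
        (comm_mem (inv_mem y.2) (inv_mem x.2)) }

variable (G) in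
/-- The associated Lie ring. -/
abbrev Assoc : Type _ := ⨁ n, Additive (Qn G n)

/-- The image of `g ∈ γ_{n+1}` in degree `n`. -/
noncomputable def mkL (n : ℕ) (g : G) (hg : g ∈ gam G n) : Assoc G :=
  DirectSum.of (fun n => Additive (Qn G n)) n (Additive.ofMul (QuotientGroup.mk ⟨g, hg⟩))

theorem mkL_congr {n m : ℕ} {g g' : G} (h : n = m) (e : g = g') (hg : g ∈ gam G n) :
    mkL n g hg = mkL m g' (by subst h; subst e; exact hg) := by
  subst h; subst e; rfl

theorem mkL_mul {n : ℕ} {g h : G} (hg : g ∈ gam G n) (hh : h ∈ gam G n) :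
    mkL n (g * h) (mul_mem hg hh) = mkL n g hg + mkL n h hh := by
  simp only [mkL, ← map_add, ← ofMul_mul, ← QuotientGroup.mk_mul, MulMemClass.mk_mul_mk]

theorem mkL_eq_zero {n : ℕ} {g : G} (hg : g ∈ gam G n) : mkL n g hg = 0 ↔ g ∈ gam G (n + 1) := by
  have h := DirectSum.of_injective (β := fun n => Additive (Qn G n)) n
  rw [mkL, map_eq_zero_iff _ h, ofMul_eq_zero, QuotientGroup.eq_one_iff, Subgroup.mem_subgroupOf]

theorem mkL_one {n : ℕ} (h : (1 : G) ∈ gam G n) : mkL n 1 h = 0 := (mkL_eq_zero h).2 (one_mem _)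

theorem mkL_inv {n : ℕ} {g : G} (hg : g ∈ gam G n) : mkL n g⁻¹ (inv_mem hg) = -mkL n g hg := by
  rw [eq_neg_iff_add_eq_zero, ← mkL_mul (inv_mem hg) hg, mkL_eq_zero, inv_mul_cancel]
  exact one_mem _

theorem mkL_eq_of_mem {n : ℕ} {g h : G} (hg : g ∈ gam G n) (hh : h ∈ gam G n)
    (he : g⁻¹ * h ∈ gam G (n + 1)) : mkL n g hg = mkL n h hh := by
  have h1 : mkL n (g⁻¹ * h) (mul_mem (inv_mem hg) hh) = 0 := (mkL_eq_zero _).2 he
  rw [mkL_mul (inv_mem hg) hh, mkL_inv hg] at h1
  exact neg_add_eq_zero.1 h1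

theorem ext_mkL {M : Type*} [AddCommMonoid M] {f g : Assoc G →+ M}
    (h : ∀ n x hx, f (mkL n x hx) = g (mkL n x hx)) : f = g := by
  refine DirectSum.addHom_ext fun n y => ?_
  obtain ⟨y, rfl⟩ := Additive.ofMul.surjective y
  induction y using QuotientGroup.induction_on with | _ x => exact h n x x.2

/-- Bracket with `x` into degree `a + b + 1`. -/
noncomputable def inner (a b : ℕ) (x : gam G a) : ↥(gam G b) →* Multiplicative (Assoc G) where
  toFun y := Multiplicative.ofAdd (mkL (a + b + 1) ⁅(x : G), (y : G)⁆ (comm_mem x.2 y.2))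
  map_one' := by
    refine Multiplicative.toAdd.injective ?_
    exact (mkL_eq_zero _).2 (by simp)
  map_mul' y z := by
    refine Multiplicative.toAdd.injective ?_
    change mkL (a + b + 1) ⁅(x : G), (y * z : gam G b).1⁆ _ = _ + _
    have hz : (y : G) * ⁅(x : G), (z : G)⁆ * (y : G)⁻¹ ∈ gam G (a + b + 1) :=
      (inferInstance : (gam G (a + b + 1)).Normal).conj_mem _ (comm_mem x.2 z.2) y
    have e : ⁅(x : G), (y * z : gam G b).1⁆ =
        ⁅(x : G), (y : G)⁆ * ((y : G) * ⁅(x : G), (z : G)⁆ * (y : G)⁻¹) := by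
      simp [commutatorElement_def, mul_assoc]
    rw [mkL_congr rfl e, mkL_mul (comm_mem x.2 y.2) hz]
    refine congrArg _ (mkL_eq_of_mem hz (comm_mem x.2 z.2) ?_)
    have e2 : ((y : G) * ⁅(x : G), (z : G)⁆ * (y : G)⁻¹)⁻¹ * ⁅(x : G), (z : G)⁆ =
        ⁅(y : G), ⁅(x : G), (z : G)⁆⁻¹⁆ := by
      simp [commutatorElement_def, mul_assoc]
    rw [e2]
    exact Subgroup.lowerCentralSeries_antitone ⊤ (by omega : a + b + 1 + 1 ≤ b + (a + b + 1) + 1)
      (comm_mem y.2 (inv_mem (comm_mem x.2 z.2)))

theorem inner_apply {a b : ℕ} (x : gam G a) (y : gam G b) :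
    inner a b x y = Multiplicative.ofAdd (mkL (a + b + 1) ⁅(x : G), (y : G)⁆ (comm_mem x.2 y.2)) := rfl

theorem inner_ker (a b : ℕ) (x : gam G a) :
    (gam G (b + 1)).subgroupOf (gam G b) ≤ (inner a b x).ker := by
  intro y hy
  rw [MonoidHom.mem_ker, inner_apply, ofAdd_eq_one, mkL_eq_zero]
  exact Subgroup.lowerCentralSeries_antitone ⊤ (by omega : a + b + 1 + 1 ≤ a + (b + 1) + 1)
    (comm_mem x.2 (Subgroup.mem_subgroupOf.1 hy))

/-- `Qn b →* Assoc`, bracket with `x`. -/
noncomputable def innerQ (a b : ℕ) (x : gam G a) : Qn G b →* Multiplicative (Assoc G) :=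
  QuotientGroup.lift _ (inner a b x) (inner_ker a b x)

/-- Bilinear bracket between two factors. -/
noncomputable def pairing (a b : ℕ) : ↥(gam G a) →* (Qn G b →* Multiplicative (Assoc G)) where
  toFun := innerQ a b
  map_one' := by
    refine QuotientGroup.monoidHom_ext _ (MonoidHom.ext fun y => ?_)
    change inner a b 1 y = 1
    rw [inner_apply, ofAdd_eq_one]
    exact (mkL_eq_zero _).2 (by simp)
  map_mul' x z := by
    refine QuotientGroup.monoidHom_ext _ (MonoidHom.ext fun y => ?_)
    change inner a b (x * z) y = inner a b x y * inner a b z y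
    simp only [inner_apply, ← ofAdd_add]
    refine congrArg _ ?_
    have hz : (x : G) * ⁅(z : G), (y : G)⁆ * (x : G)⁻¹ ∈ gam G (a + b + 1) :=
      (inferInstance : (gam G (a + b + 1)).Normal).conj_mem _ (comm_mem z.2 y.2) x
    have e : ⁅(x * z : gam G a).1, (y : G)⁆ =
        ((x : G) * ⁅(z : G), (y : G)⁆ * (x : G)⁻¹) * ⁅(x : G), (y : G)⁆ := by
      simp [commutatorElement_def, mul_assoc]
    rw [mkL_congr rfl e, mkL_mul hz (comm_mem x.2 y.2), add_comm]
    refine congrArg _ (mkL_eq_of_mem hz (comm_mem z.2 y.2) ?_)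
    have e2 : ((x : G) * ⁅(z : G), (y : G)⁆ * (x : G)⁻¹)⁻¹ * ⁅(z : G), (y : G)⁆ =
        ⁅(x : G), ⁅(z : G), (y : G)⁆⁻¹⁆ := by
      simp [commutatorElement_def, mul_assoc]
    rw [e2]
    exact Subgroup.lowerCentralSeries_antitone ⊤ (by omega : a + b + 1 + 1 ≤ a + (a + b + 1) + 1)
      (comm_mem x.2 (inv_mem (comm_mem z.2 y.2)))

theorem pairing_apply {a b : ℕ} (x : gam G a) (y : gam G b) :
    pairing a b x (QuotientGroup.mk y) = inner a b x y := rfl

theorem pairing_ker (a b : ℕ) : (gam G (a + 1)).subgroupOf (gam G a) ≤ (pairing a b).ker := by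
  intro x hx
  rw [MonoidHom.mem_ker]
  refine QuotientGroup.monoidHom_ext _ (MonoidHom.ext fun y => ?_)
  change inner a b x y = 1
  rw [inner_apply, ofAdd_eq_one, mkL_eq_zero]
  exact Subgroup.lowerCentralSeries_antitone ⊤ (by omega : a + b + 1 + 1 ≤ a + 1 + b + 1)
    (comm_mem (Subgroup.mem_subgroupOf.1 hx) y.2)

/-- Turn a hom into a multiplicative group into an additive one. -/
def additiveHom {A B : Type*} [MulOneClass A] [AddZeroClass B] (f : A →* Multiplicative B) :
    Additive A →+ B := MonoidHom.toAdditiveLeft f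

/-- Bracket of a homogeneous element with the whole ring. -/
noncomputable def degHom (a : ℕ) : Additive (Qn G a) →+ (Assoc G →+ Assoc G) :=
  AddMonoidHom.mk'
    (fun u => DirectSum.toAddMonoid fun b =>
      additiveHom (QuotientGroup.lift _ (pairing a b) (pairing_ker a b) (Additive.toMul u)))
    (fun u v => DirectSum.addHom_ext fun b w => by
      simp only [AddMonoidHom.add_apply, DirectSum.toAddMonoid_of, toMul_add, map_mul]
      rfl)

/-- The bracket. -/
noncomputable def bracketHom : Assoc G →+ Assoc G →+ Assoc G :=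
  DirectSum.toAddMonoid fun a => degHom a

theorem bracketHom_mkL {a b : ℕ} {x y : G} (hx : x ∈ gam G a) (hy : y ∈ gam G b) :
    bracketHom (mkL a x hx) (mkL b y hy) = mkL (a + b + 1) ⁅x, y⁆ (comm_mem hx hy) := by
  rw [mkL, mkL, bracketHom, DirectSum.toAddMonoid_of, degHom, AddMonoidHom.mk'_apply,
    DirectSum.toAddMonoid_of]
  rfl

theorem bracketHom_antisymm (u v : Assoc G) : bracketHom v u = -bracketHom u v := by
  have h : (bracketHom (G := G)).flip = -bracketHom := by
    refine ext_mkL fun a x hx => ext_mkL fun b y hy => ?_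
    simp only [AddMonoidHom.flip_apply, AddMonoidHom.neg_apply, bracketHom_mkL]
    rw [← mkL_inv]
    exact mkL_congr (by omega) (commutatorElement_inv _ _).symm _
  exact DFunLike.congr_fun (DFunLike.congr_fun h u) v

theorem bracketHom_jacobi_mkL {a b c : ℕ} {x y z : G} (hx : x ∈ gam G a) (hy : y ∈ gam G b)
    (hz : z ∈ gam G c) :
    bracketHom (bracketHom (mkL a x hx) (mkL b y hy)) (mkL c z hz) +
      bracketHom (bracketHom (mkL b y hy) (mkL c z hz)) (mkL a x hx) +
      bracketHom (bracketHom (mkL c z hz) (mkL a x hx)) (mkL b y hy) = 0 := by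
  have hc : ∀ {k l : ℕ} {u w : G}, u ∈ gam G k → ∀ hw : w ∈ gam G l, ∀ hw' : u * w * u⁻¹ ∈ gam G l,
      mkL l w hw = mkL l (u * w * u⁻¹) hw' := fun {k l u w} hu hw hw' => mkL_eq_of_mem hw hw' (by
    rw [show w⁻¹ * (u * w * u⁻¹) = ⁅w⁻¹, u⁆ by simp [commutatorElement_def, mul_assoc]]
    exact Subgroup.lowerCentralSeries_antitone ⊤ (by omega : l + 1 ≤ l + k + 1)
      (comm_mem (inv_mem hw) hu))
  have nz : ∀ {k l : ℕ} {u w : G}, u ∈ gam G k → w ∈ gam G l → u * w * u⁻¹ ∈ gam G l :=
    fun {k l u w} _ hw => (inferInstance : (gam G l).Normal).conj_mem _ hw u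
  rw [bracketHom_mkL hx hy, bracketHom_mkL hy hz, bracketHom_mkL hz hx,
    hc hy hz (nz hy hz), hc hz hx (nz hz hx), hc hx hy (nz hx hy),
    bracketHom_mkL, bracketHom_mkL, bracketHom_mkL,
    mkL_congr (show b + c + 1 + a + 1 = a + b + 1 + c + 1 by omega) rfl,
    mkL_congr (show c + a + 1 + b + 1 = a + b + 1 + c + 1 by omega) rfl,
    ← mkL_mul, ← mkL_mul, mkL_eq_zero, commutatorElement_commutatorElement_conj_mul]
  exact one_mem _

theorem bracketHom_leibniz (u v w : Assoc G) :
    bracketHom u (bracketHom v w) = bracketHom (bracketHom u v) w + bracketHom v (bracketHom u w) := by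
  have key : bracketHom (bracketHom u v) w + bracketHom (bracketHom v w) u +
      bracketHom (bracketHom w u) v = 0 := by
    let T : Assoc G →+ Assoc G →+ Assoc G →+ Assoc G :=
      AddMonoidHom.mk' (fun u => AddMonoidHom.mk' (fun v => AddMonoidHom.mk'
        (fun w => bracketHom (bracketHom u v) w + bracketHom (bracketHom v w) u +
          bracketHom (bracketHom w u) v)
        (fun w w' => by simp only [map_add, AddMonoidHom.add_apply]; abel))
        (fun v v' => AddMonoidHom.ext fun w => by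
          simp only [AddMonoidHom.mk'_apply, map_add, AddMonoidHom.add_apply]; abel))
        (fun u u' => AddMonoidHom.ext fun v => AddMonoidHom.ext fun w => by
          simp only [AddMonoidHom.mk'_apply, map_add, AddMonoidHom.add_apply]; abel)
    have hT : T = 0 := ext_mkL fun a x hx => ext_mkL fun b y hy => ext_mkL fun c z hz => by
      simp only [T, AddMonoidHom.mk'_apply, AddMonoidHom.zero_apply]
      exact bracketHom_jacobi_mkL hx hy hz
    exact DFunLike.congr_fun (DFunLike.congr_fun (DFunLike.congr_fun hT u) v) w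
  rw [bracketHom_antisymm (bracketHom v w) u, bracketHom_antisymm (bracketHom u w) v]
  rw [bracketHom_antisymm u w, map_neg, AddMonoidHom.neg_apply] at key
  calc -(bracketHom (bracketHom v w) u) = -(bracketHom (bracketHom v w) u) + 0 := (add_zero _).symm
    _ = -(bracketHom (bracketHom v w) u) + (bracketHom (bracketHom u v) w +
          bracketHom (bracketHom v w) u + -(bracketHom (bracketHom u w) v)) := by rw [key]
    _ = _ := by abel

theorem bracketHom_self (u : Assoc G) : bracketHom u u = 0 := by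
  induction u using DirectSum.induction_on with
  | zero => simp
  | of a y =>
    obtain ⟨y, rfl⟩ := Additive.ofMul.surjective y
    induction y using QuotientGroup.induction_on with | _ x =>
    change bracketHom (mkL a (x : G) x.2) (mkL a (x : G) x.2) = 0
    rw [bracketHom_mkL, mkL_eq_zero, commutatorElement_self]
    exact one_mem _
  | add u v hu hv =>
    simp only [map_add, AddMonoidHom.add_apply, hu, hv, bracketHom_antisymm u v]
    abel

noncomputable instance assocLieRing : LieRing (Assoc G) where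
  bracket u v := bracketHom u v
  add_lie u v w := by simp
  lie_add u v w := by simp
  lie_self := bracketHom_self
  leibniz_lie := bracketHom_leibniz

theorem lie_mkL {a b : ℕ} {x y : G} (hx : x ∈ gam G a) (hy : y ∈ gam G b) :
    ⁅mkL a x hx, mkL b y hy⁆ = mkL (a + b + 1) ⁅x, y⁆ (comm_mem hx hy) := bracketHom_mkL hx hy

theorem mkL_mem_lowerAll : ∀ (n : ℕ) {g : G} (hg : g ∈ gam G n), mkL n g hg ∈ lowerAll (Assoc G) n
  | 0, _, _ => AddSubgroup.mem_top _
  | n + 1, g, hg => by
    suffices H : ∀ g ∈ Subgroup.closure {z | ∃ p ∈ gam G n, ∃ q ∈ (⊤ : Subgroup G), ⁅p, q⁆ = z},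
        ∃ h : g ∈ gam G (n + 1), mkL (n + 1) g h ∈ lowerAll (Assoc G) (n + 1) from (H g hg).2
    intro g hg
    induction hg using Subgroup.closure_induction with
    | mem z hz =>
      obtain ⟨u, hu, w, hw, rfl⟩ := hz
      refine ⟨Subgroup.commutator_mem_commutator hu hw, ?_⟩
      have h := lie_mem_brk (mkL_mem_lowerAll n hu) (AddSubgroup.mem_top (mkL 0 w (Subgroup.mem_top w)))
      have e := lie_mkL (b := 0) hu (show w ∈ gam G 0 from Subgroup.mem_top w)
      exact e ▸ h
    | one => exact ⟨one_mem _, by rw [mkL_one]; exact zero_mem _⟩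
    | mul x y _ _ hx hy =>
      obtain ⟨h1, h1'⟩ := hx
      obtain ⟨h2, h2'⟩ := hy
      exact ⟨mul_mem h1 h2, by rw [mkL_mul h1 h2]; exact add_mem h1' h2'⟩
    | inv x _ hx =>
      obtain ⟨h1, h1'⟩ := hx
      exact ⟨inv_mem h1, by rw [mkL_inv h1]; exact neg_mem h1'⟩

theorem map_gam_mem (α : MulAut G) : ∀ (n : ℕ) {g : G}, g ∈ gam G n → α g ∈ gam G n := by
  intro n g hg
  have h : (gam G n).map α.toMonoidHom = gam G n :=
    (Subgroup.characteristic_iff_map_eq.1 inferInstance) α
  rw [← h]; exact ⟨g, hg, rfl⟩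

/-- The automorphism induced on the associated ring. -/
noncomputable def assocMap (α : MulAut G) : Assoc G →+ Assoc G :=
  DirectSum.toAddMonoid fun n => additiveHom (QuotientGroup.lift _
    ({ toFun := fun x => Multiplicative.ofAdd (mkL n (α x) (map_gam_mem α n x.2))
       map_one' := by
         rw [ofAdd_eq_one, mkL_eq_zero]; simp
       map_mul' := fun x y => by
         rw [← ofAdd_add, ← mkL_mul]
         exact congrArg _ (mkL_congr rfl (map_mul α _ _) _) } :
      ↥(gam G n) →* Multiplicative (Assoc G))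
    (fun x hx => by
      rw [MonoidHom.mem_ker]
      change Multiplicative.ofAdd (mkL n (α x) (map_gam_mem α n x.2)) = 1
      rw [ofAdd_eq_one, mkL_eq_zero]
      exact map_gam_mem α (n + 1) (Subgroup.mem_subgroupOf.1 hx)))

theorem assocMap_mkL (α : MulAut G) {n : ℕ} {g : G} (hg : g ∈ gam G n) :
    assocMap α (mkL n g hg) = mkL n (α g) (map_gam_mem α n hg) := by
  rw [assocMap, mkL, DirectSum.toAddMonoid_of]; rfl

theorem assocMap_lie (α : MulAut G) (u v : Assoc G) : assocMap α ⁅u, v⁆ = ⁅assocMap α u, assocMap α v⁆ := by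
  change assocMap α (bracketHom u v) = bracketHom (assocMap α u) (assocMap α v)
  have h : (AddMonoidHom.compHom (assocMap α)).comp bracketHom =
      (AddMonoidHom.compHom.flip (assocMap α)).comp (bracketHom.comp (assocMap α)) :=
    ext_mkL fun a x hx => ext_mkL fun b y hy => by
      simp only [AddMonoidHom.coe_comp, Function.comp_apply, AddMonoidHom.compHom_apply_apply,
        AddMonoidHom.flip_apply, bracketHom_mkL, assocMap_mkL]
      exact mkL_congr rfl (map_commutatorElement α _ _) _
  exact DFunLike.congr_fun (DFunLike.congr_fun h u) v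

theorem assocMap_iterate (α : MulAut G) (j : ℕ) {n : ℕ} {g : G} (hg : g ∈ gam G n) :
    (⇑(assocMap α))^[j] (mkL n g hg) = mkL n ((α ^ j) g) (map_gam_mem (α ^ j) n hg) := by
  induction j with
  | zero => exact mkL_congr rfl (by simp) _
  | succ j ih =>
    rw [Function.iterate_succ_apply', ih, assocMap_mkL]
    exact mkL_congr rfl (by rw [pow_succ']; rfl) _

theorem fixed_mem [Finite G] (α : MulAut G) (hfpf : ∀ g : G, α g = g → g = 1) {N : Subgroup G}
    (hN : ∀ x ∈ N, α x ∈ N) {y : G} (hy : y⁻¹ * α y ∈ N) : y ∈ N := by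
  let f : G → G := fun g => g⁻¹ * α g
  have hinj : Function.Injective f := by
    intro a b h
    have h2 : α (a * b⁻¹) = a * b⁻¹ := by
      have h' : α a = a * (b⁻¹ * α b) := inv_mul_eq_iff_eq_mul.1 h
      rw [map_mul, map_inv, h']; simp [mul_assoc]
    exact mul_inv_eq_one.1 (hfpf _ h2)
  have hmaps : Set.MapsTo f N N := fun g hg => mul_mem (inv_mem hg) (hN g hg)
  obtain ⟨⟨z, hz⟩, he⟩ := Finite.injective_iff_surjective.1 (hmaps.restrict_inj.2 hinj.injOn) ⟨_, hy⟩
  rwa [← hinj (congrArg Subtype.val he)]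

variable {p : ℕ} [hp : Fact p.Prime]

theorem coprime_card [Finite G] (α : MulAut G) (hαp : α ^ p = 1) (hfpf : ∀ g : G, α g = g → g = 1) :
    (Nat.card G).Coprime p := by
  have hpg : IsPGroup p (Subgroup.zpowers α) := by
    obtain ⟨k, -, hk⟩ := (Nat.dvd_prime_pow hp.out).1
      ((orderOf_dvd_of_pow_eq_one hαp).trans (dvd_of_eq (pow_one p).symm))
    exact IsPGroup.of_card (n := k) (by rw [Nat.card_zpowers, hk])
  have h := hpg.card_modEq_card_fixedPoints G
  have hfix : Nat.card (MulAction.fixedPoints (Subgroup.zpowers α) G) = 1 := by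
    rw [Nat.card_eq_one_iff_unique]
    refine ⟨⟨fun u v => ?_⟩, ⟨⟨1, fun g => map_one (g : MulAut G)⟩⟩⟩
    have e : ∀ w : MulAction.fixedPoints (Subgroup.zpowers α) G, (w : G) = 1 := fun w =>
      hfpf _ (w.2 ⟨α, Subgroup.mem_zpowers α⟩)
    exact Subtype.ext ((e u).trans (e v).symm)
  rw [hfix] at h
  rw [Nat.coprime_comm, hp.out.coprime_iff_not_dvd]
  intro hd
  have h' := h.symm.trans (Nat.modEq_zero_iff_dvd.2 hd)
  rw [Nat.modEq_zero_iff_dvd] at h'
  exact hp.out.ne_one (Nat.dvd_one.1 h')

/-- **Higman, Kreknin, Kostrikin**: the class bound. -/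
theorem lcs_eq_bot [Finite G] [hnil : Group.IsNilpotent G] (α : MulAut G) (hαp : α ^ p = 1)
    (hfpf : ∀ g : G, α g = g → g = 1) :
    gam G (xi p (2 ^ (p - 1) - 1)) = ⊥ ∧ (p = 3 → gam G 2 = ⊥) := by
  have hap : ∀ u : Assoc G, (⇑(assocMap α))^[p] u = u := by
    intro u
    induction u using DirectSum.induction_on with
    | zero =>
      exact Function.iterate_fixed (map_zero _) p
    | of n y =>
      obtain ⟨y, rfl⟩ := Additive.ofMul.surjective y
      induction y using QuotientGroup.induction_on with | _ x =>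
      change (⇑(assocMap α))^[p] (mkL n (x : G) x.2) = mkL n (x : G) x.2
      rw [assocMap_iterate]
      exact mkL_congr rfl (by rw [hαp]; rfl) _
    | add u v hu hv => rw [iterate_map_add, hu, hv]
  have hnorm : ∀ u : Assoc G, ∑ j ∈ Finset.range p, (⇑(assocMap α))^[j] u = 0 := by
    intro u
    induction u using DirectSum.induction_on with
    | zero => simp [iterate_map_zero]
    | add u v hu hv => simp only [iterate_map_add, Finset.sum_add_distrib, hu, hv, add_zero]
    | of n y =>
      obtain ⟨y, rfl⟩ := Additive.ofMul.surjective y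
      induction y using QuotientGroup.induction_on with | _ x =>
      change ∑ j ∈ Finset.range p, (⇑(assocMap α))^[j] (mkL n (x : G) x.2) = 0
      have hs : ∀ k, ∃ y : G, ∃ hy : y ∈ gam G n,
          mkL n y hy = ∑ j ∈ Finset.range k, (⇑(assocMap α))^[j] (mkL n x x.2) := by
        intro k
        induction k with
        | zero => exact ⟨1, one_mem _, mkL_one _⟩
        | succ k ih =>
          obtain ⟨y, hy, hyy⟩ := ih
          exact ⟨y * (α ^ k) x, mul_mem hy (map_gam_mem _ n x.2), by
            rw [mkL_mul hy (map_gam_mem _ n x.2), hyy, Finset.sum_range_succ, assocMap_iterate]⟩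
      obtain ⟨y, hy, hyy⟩ := hs p
      rw [← hyy, mkL_eq_zero]
      have hfix : assocMap α (mkL n y hy) = mkL n y hy := by
        rw [hyy, map_sum]
        simp only [← Function.iterate_succ_apply' (⇑(assocMap α))]
        have h1 := Finset.sum_range_succ' (fun j => (⇑(assocMap α))^[j] (mkL n x x.2)) p
        have h2 := Finset.sum_range_succ (fun j => (⇑(assocMap α))^[j] (mkL n x x.2)) p
        rw [h2] at h1
        have hx := hap (mkL n x x.2)
        simp only [hx, Function.iterate_zero_apply] at h1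
        exact (add_right_cancel h1).symm
      rw [assocMap_mkL, eq_comm] at hfix
      refine fixed_mem α hfpf (fun z hz => map_gam_mem α _ hz) ?_
      rw [← mkL_eq_zero (mul_mem (inv_mem hy) (map_gam_mem α n hy)), mkL_mul (inv_mem hy) (map_gam_mem α n hy), mkL_inv hy,
        ← hfix, neg_add_cancel]
  have hm : ∀ u : Assoc G, (Nat.card G : ℤ) • u = 0 := by
    intro u
    rw [natCast_zsmul]
    induction u using DirectSum.induction_on with
    | zero => exact smul_zero _
    | add u v hu hv => rw [smul_add, hu, hv, add_zero]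
    | of n y =>
      obtain ⟨y, rfl⟩ := Additive.ofMul.surjective y
      induction y using QuotientGroup.induction_on with | _ x =>
      rw [← map_nsmul, ← ofMul_pow, ← QuotientGroup.mk_pow]
      have : x ^ Nat.card G = 1 := Subtype.ext (by simp [pow_card_eq_one'])
      rw [this, QuotientGroup.mk_one, ofMul_one, map_zero]
  obtain ⟨h1, h2⟩ := class_le (assocMap α) (assocMap_lie α) hap hnorm hm (coprime_card α hαp hfpf)
  obtain ⟨c, hc⟩ := Subgroup.nilpotent_iff_lowerCentralSeries.1 hnil
  have done : ∀ n, lowerAll (Assoc G) n = ⊥ → gam G n = ⊥ := by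
    intro n hn
    have hstep : gam G n ≤ gam G (n + 1) := fun g hg => by
      have h := mkL_mem_lowerAll n hg
      rwa [hn, AddSubgroup.mem_bot, mkL_eq_zero] at h
    have hall : ∀ k, gam G n ≤ gam G (n + k) := by
      intro k
      induction k with
      | zero => exact le_rfl
      | succ k ih =>
        refine hstep.trans ?_
        exact Subgroup.commutator_mono ih le_rfl
    exact le_bot_iff.1 ((hall c).trans ((Subgroup.lowerCentralSeries_antitone ⊤ (Nat.le_add_left c n)).trans hc.le))
  exact ⟨done _ h1, fun h => done _ (h2 h)⟩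

end Cfsg.Agent.Lib.Kreknin
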