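import Mathlib.Algebra.Lie.Basic
import Mathlib.Algebra.Ring.GeomSum
import Mathlib.Algebra.Group.Subgroup.Lattice
import Mathlib.Data.ZMod.Basic
import Mathlib.Algebra.Field.ZMod
import Mathlib.Data.List.Perm.Subperm
import Mathlib.Tactic.Abel
import Mathlib.Tactic.Ring

/-!
# Theorems of Kreknin and Kostrikin on `ℤ/p`-graded Lie rings with trivial zero component

`kreknin`: the derived length is at most `2 ^ (p - 1) - 1`.
`lower_eq_bot`: the class is at most `∑ i < 2 ^ (p - 1) - 1, (p - 1) ^ i`.
-/

set_option autoImplicit false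

namespace Cfsg.Agent.Lib.Kreknin

variable {L : Type*} [LieRing L]

/-- The additive subgroup generated by brackets. -/
def brk (A B : AddSubgroup L) : AddSubgroup L :=
  AddSubgroup.closure {z | ∃ a ∈ A, ∃ b ∈ B, ⁅a, b⁆ = z}

theorem lie_mem_brk {A B : AddSubgroup L} {a b : L} (ha : a ∈ A) (hb : b ∈ B) : ⁅a, b⁆ ∈ brk A B :=
  AddSubgroup.subset_closure ⟨a, ha, b, hb, rfl⟩

theorem brk_le {A B C : AddSubgroup L} (h : ∀ a ∈ A, ∀ b ∈ B, ⁅a, b⁆ ∈ C) : brk A B ≤ C := by
  rw [brk, AddSubgroup.closure_le]; rintro _ ⟨a, ha, b, hb, rfl⟩; exact h a ha b hb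

theorem brk_mono {A B A' B' : AddSubgroup L} (hA : A ≤ A') (hB : B ≤ B') : brk A B ≤ brk A' B' :=
  brk_le fun _ ha _ hb => lie_mem_brk (hA ha) (hB hb)

/-- `z ↦ ⁅y, z⁆`. -/
def lieL (y : L) : L →+ L := AddMonoidHom.mk' (fun z => ⁅y, z⁆) fun a b => lie_add y a b

/-- `y ↦ ⁅y, z⁆`. -/
def lieR (z : L) : L →+ L := AddMonoidHom.mk' (fun y => ⁅y, z⁆) fun a b => add_lie a b z

@[simp] theorem lieL_apply (y z : L) : lieL y z = ⁅y, z⁆ := rfl
@[simp] theorem lieR_apply (y z : L) : lieR z y = ⁅y, z⁆ := rfl

theorem lie_mem_symm {S : AddSubgroup L} {a b : L} (h : ⁅b, a⁆ ∈ S) : ⁅a, b⁆ ∈ S := by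
  rw [← lie_skew]; exact neg_mem h

variable {p : ℕ}

/-- A family indexed by `ℤ/p` respected by the bracket. -/
def IsGraded (C : ZMod p → AddSubgroup L) : Prop := ∀ i j, brk (C i) (C j) ≤ C (i + j)

theorem IsGraded.lie_mem {C : ZMod p → AddSubgroup L} (hC : IsGraded C) {i j : ZMod p} {a b : L}
    (ha : a ∈ C i) (hb : b ∈ C j) : ⁅a, b⁆ ∈ C (i + j) := hC i j (lie_mem_brk ha hb)

/-- The graded components of the bracket product of two families. -/
def mul (A B : ZMod p → AddSubgroup L) (k : ZMod p) : AddSubgroup L := ⨆ i, brk (A i) (B (k - i))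

theorem lie_mem_mul {A B : ZMod p → AddSubgroup L} {i j : ZMod p} {a b : L}
    (ha : a ∈ A i) (hb : b ∈ B j) : ⁅a, b⁆ ∈ mul A B (i + j) :=
  AddSubgroup.mem_iSup_of_mem i (lie_mem_brk ha (by rwa [add_sub_cancel_left]))

theorem mul_le {A B : ZMod p → AddSubgroup L} {k : ZMod p} {S : AddSubgroup L}
    (h : ∀ i j, i + j = k → ∀ a ∈ A i, ∀ b ∈ B j, ⁅a, b⁆ ∈ S) : mul A B k ≤ S :=
  iSup_le fun i => brk_le (h i (k - i) (add_sub_cancel i k))

/-- The derived series of a family. -/
def der (C : ZMod p → AddSubgroup L) (n : ℕ) : ZMod p → AddSubgroup L := (fun D => mul D D)^[n] C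

theorem der_zero (C : ZMod p → AddSubgroup L) : der C 0 = C := rfl

theorem der_succ (C : ZMod p → AddSubgroup L) (n : ℕ) : der C (n + 1) = mul (der C n) (der C n) :=
  Function.iterate_succ_apply' _ _ _

theorem der_add (C : ZMod p → AddSubgroup L) (m n : ℕ) : der C (m + n) = der (der C n) m :=
  Function.iterate_add_apply _ _ _ _

variable {C : ZMod p → AddSubgroup L} (hC : IsGraded C)

include hC in
theorem mul_self_le (k : ZMod p) : mul C C k ≤ C k :=
  mul_le fun _ _ e _ ha _ hb => e ▸ hC.lie_mem ha hb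

include hC in
theorem isGraded_mul_self : IsGraded (mul C C) := fun i j =>
  brk_le fun _ ha _ hb => lie_mem_mul (mul_self_le hC i ha) (mul_self_le hC j hb)

include hC in
theorem isGraded_der : ∀ n, IsGraded (der C n)
  | 0 => hC
  | n + 1 => by rw [der_succ]; exact isGraded_mul_self (isGraded_der n)

include hC in
theorem der_le : ∀ (n : ℕ) (i : ZMod p), der C n i ≤ C i
  | 0, _ => le_rfl
  | n + 1, i => by rw [der_succ]; exact (mul_self_le (isGraded_der hC n) i).trans (der_le n i)

include hC in
theorem lie_mem_der : ∀ (n : ℕ) {i j : ZMod p} {a b : L}, a ∈ der C n i → b ∈ C j →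
    ⁅a, b⁆ ∈ der C n (i + j) := by
  intro n
  induction n with
  | zero => intro i j a b ha hb; exact hC.lie_mem ha hb
  | succ n ih =>
    intro i j a b ha hb
    rw [der_succ] at ha ⊢
    suffices h : mul (der C n) (der C n) i ≤ (mul (der C n) (der C n) (i + j)).comap (lieR b) from h ha
    refine mul_le fun i' j' e u hu v hv => ?_
    change ⁅⁅u, v⁆, b⁆ ∈ mul (der C n) (der C n) (i + j)
    rw [lie_lie, ← e]
    refine sub_mem ?_ ?_
    · rw [add_assoc]; exact lie_mem_mul hu (ih hv hb)
    · rw [show i' + j' + j = j' + (i' + j) by abel]; exact lie_mem_mul hv (ih hu hb)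

/-! ### Kreknin -/

/-- Commutator monomials in the components `C j`, `j > k`. -/
inductive Gen (C : ZMod p → AddSubgroup L) (k : ℕ) : ZMod p → L → Prop
  | base {j : ZMod p} {x : L} : k < j.val → x ∈ C j → Gen C k j x
  | br {i j : ZMod p} {x y : L} : Gen C k i x → Gen C k j y → Gen C k (i + j) ⁅x, y⁆

/-- The components of the subring generated by the `C j`, `j > k`. -/
def span (C : ZMod p → AddSubgroup L) (k : ℕ) (i : ZMod p) : AddSubgroup L :=
  AddSubgroup.closure {x | Gen C k i x}

theorem mem_span {k : ℕ} {i : ZMod p} {x : L} (h : Gen C k i x) : x ∈ span C k i :=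
  AddSubgroup.subset_closure h

theorem lie_mem_span {k : ℕ} {i j : ZMod p} {x y : L} (hx : x ∈ span C k i) (hy : y ∈ span C k j) :
    ⁅x, y⁆ ∈ span C k (i + j) := by
  suffices h : span C k i ≤ (span C k (i + j)).comap (lieR y) from h hx
  rw [span, AddSubgroup.closure_le]
  intro u hu
  suffices h : span C k j ≤ (span C k (i + j)).comap (lieL u) from h hy
  rw [span, AddSubgroup.closure_le]
  intro v hv
  exact mem_span (Gen.br hu hv)

include hC in
theorem Gen.mem {k : ℕ} {i : ZMod p} {x : L} (h : Gen C k i x) : x ∈ C i := by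
  induction h with
  | base _ h => exact h
  | br _ _ ha hb => exact hC.lie_mem ha hb

theorem span_mono_of {C' : ZMod p → AddSubgroup L} {k k' : ℕ}
    (h : ∀ j : ZMod p, k < j.val → C' j ≤ span C k' j) (i : ZMod p) : span C' k i ≤ span C k' i := by
  rw [span, AddSubgroup.closure_le]
  intro x hx
  change x ∈ span C k' i
  induction hx with
  | base hj hx => exact h _ hj hx
  | br _ _ ha hb => exact lie_mem_span ha hb

/-- Sums of `⁅u, l⁆` with `l` in some `C j`, `j > k`. -/
def tailSpan (C : ZMod p → AddSubgroup L) (k : ℕ) (i : ZMod p) : AddSubgroup L :=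
  ⨆ (j : ZMod p) (_ : k < j.val), brk (C (i - j)) (C j)

include hC in
theorem lie_gen_mem_tailSpan {k : ℕ} {d : ZMod p} {z : L} (hz : Gen C k d z) :
    ∀ {i : ZMod p} {y : L}, y ∈ C i → ⁅y, z⁆ ∈ tailSpan C k (i + d) := by
  induction hz with
  | @base j x hj hx =>
    intro i y hy
    exact AddSubgroup.mem_iSup_of_mem j (AddSubgroup.mem_iSup_of_mem hj
      (lie_mem_brk (by rwa [add_sub_cancel_right]) hx))
  | @br i' j' x x' hx hx' ih ih' =>
    intro i y hy
    rw [leibniz_lie]
    refine add_mem ?_ ?_
    · rw [← add_assoc]; exact ih' (hC.lie_mem hy (Gen.mem hC hx))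
    · rw [← lie_skew, show i + (i' + j') = i + j' + i' by abel]
      exact neg_mem (ih (hC.lie_mem hy (Gen.mem hC hx')))

variable [hp : Fact p.Prime]

include hC in
/-- The key step. -/
theorem brk_span_le (hC0 : C 0 = ⊥) {k : ℕ} (hk : k + 1 < p) (i : ZMod p) :
    brk (C i) (span C k (((k + 1 : ℕ) : ZMod p) - i)) ≤ span C (k + 1) ((k + 1 : ℕ) : ZMod p) := by
  have h1 : brk (C i) (span C k (((k + 1 : ℕ) : ZMod p) - i)) ≤ tailSpan C k ((k + 1 : ℕ) : ZMod p) := by
    refine brk_le fun a ha b hb => ?_
    suffices h : span C k (((k + 1 : ℕ) : ZMod p) - i) ≤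
        (tailSpan C k ((k + 1 : ℕ) : ZMod p)).comap (lieL a) from h hb
    rw [span, AddSubgroup.closure_le]
    intro v hv
    have h2 := lie_gen_mem_tailSpan hC hv ha
    rwa [add_sub_cancel] at h2
  refine h1.trans (iSup₂_le fun j hj => brk_le fun a ha b hb => ?_)
  rcases eq_or_lt_of_le (Nat.succ_le_of_lt hj) with h | h
  · have hjk : j = ((k + 1 : ℕ) : ZMod p) := by
      rw [← ZMod.natCast_zmod_val j, ← h]
    rw [hjk, sub_self, hC0, AddSubgroup.mem_bot] at ha
    rw [ha, zero_lie]; exact zero_mem _
  · have hval : k + 1 < (((k + 1 : ℕ) : ZMod p) - j).val := by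
      have hjp := ZMod.val_lt j
      have he : (((k + 1 : ℕ) : ZMod p) - j) = ((p + (k + 1) - j.val : ℕ) : ZMod p) := by
        rw [Nat.cast_sub (by omega : j.val ≤ p + (k + 1)), Nat.cast_add p, ZMod.natCast_self, zero_add, ZMod.natCast_zmod_val]
      rw [he, ZMod.val_natCast, Nat.mod_eq_of_lt (by omega)]
      omega
    have h2 := mem_span (Gen.br (Gen.base hval ha) (Gen.base h hb))
    rwa [sub_add_cancel] at h2

include hp in
theorem kreknin_step : ∀ k : ℕ, k < p → ∀ C : ZMod p → AddSubgroup L, IsGraded C → C 0 = ⊥ →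
    ∀ i, der C (2 ^ k - 1) i ≤ span C k i
  | 0, _, C, _, hC0, i => by
    intro x hx
    by_cases hi : i = 0
    · subst hi
      change x ∈ C 0 at hx
      rw [hC0, AddSubgroup.mem_bot] at hx
      subst hx; exact zero_mem _
    · exact mem_span (Gen.base (Nat.pos_of_ne_zero ((ZMod.val_ne_zero i).2 hi)) hx)
  | k + 1, hk, C, hC, hC0, i => by
    set f := 2 ^ k - 1 with hf
    have he : 2 ^ (k + 1) - 1 = f + (f + 1) := by
      have := Nat.one_le_two_pow (n := k); rw [pow_succ]; omega
    have hC' := isGraded_der hC (f + 1)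
    have hC'0 : der C (f + 1) 0 = ⊥ := le_bot_iff.1 ((der_le hC _ _).trans hC0.le)
    rw [he, der_add]
    refine (kreknin_step k (by omega) _ hC' hC'0 i).trans (span_mono_of (fun j hj => ?_) i)
    rcases eq_or_lt_of_le (Nat.succ_le_of_lt hj) with h | h
    · have hjk : j = ((k + 1 : ℕ) : ZMod p) := by rw [← ZMod.natCast_zmod_val j, ← h]
      rw [der_succ, hjk]
      refine iSup_le fun i' => le_trans ?_ (brk_span_le hC hC0 hk i')
      exact brk_mono (der_le hC f i') (kreknin_step k (by omega) C hC hC0 _)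
    · exact fun x hx => mem_span (Gen.base h (der_le hC (f + 1) j hx))

include hC hp in
/-- **Kreknin**: derived length at most `2 ^ (p - 1) - 1`. -/
theorem kreknin (hC0 : C 0 = ⊥) (i : ZMod p) : der C (2 ^ (p - 1) - 1) i = ⊥ := by
  refine le_bot_iff.1 ((kreknin_step (p - 1) (by have := hp.out.pos; omega) C hC hC0 i).trans ?_)
  rw [span, AddSubgroup.closure_le]
  intro x hx
  induction hx with
  | @base j x hj _ => have := ZMod.val_lt j; omega
  | br _ _ ha hb => rw [SetLike.mem_coe, AddSubgroup.mem_bot] at ha ⊢; rw [ha, zero_lie]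

/-! ### Kostrikin's class bound -/

/-- Components of the lower central series; `lower C n` has weight `n + 1`. -/
def lower (C : ZMod p → AddSubgroup L) : ℕ → ZMod p → AddSubgroup L
  | 0 => C
  | n + 1 => mul (lower C n) C

include hC in
theorem lower_antitone {m n : ℕ} (h : m ≤ n) (i : ZMod p) : lower C n i ≤ lower C m i := by
  have step : ∀ (n : ℕ) (i : ZMod p), lower C (n + 1) i ≤ lower C n i := by
    intro n
    induction n with
    | zero => exact fun i => mul_self_le hC i
    | succ n ih => exact fun i => mul_le fun i' j e a ha b hb => e ▸ lie_mem_mul (ih i' ha) hb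
  exact antitone_nat_of_succ_le (f := fun n => lower C n i) (fun n => step n i) h

include hC in
theorem lower_le (n : ℕ) (i : ZMod p) : lower C n i ≤ C i := lower_antitone hC (Nat.zero_le n) i

theorem lie_mem_lower : ∀ (n m : ℕ) {i j : ZMod p} {a b : L}, a ∈ lower C m i → b ∈ lower C n j →
    ⁅a, b⁆ ∈ lower C (m + n + 1) (i + j) := by
  intro n
  induction n with
  | zero => intro m i j a b ha hb; exact lie_mem_mul ha hb
  | succ n ih =>
    intro m i j a b ha hb
    suffices h : mul (lower C n) C j ≤ (lower C (m + (n + 1) + 1) (i + j)).comap (lieL a) from h hb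
    refine mul_le fun i' j' e u hu v hv => ?_
    change ⁅a, ⁅u, v⁆⁆ ∈ lower C (m + (n + 1) + 1) (i + j)
    rw [← e, leibniz_lie]
    refine add_mem ?_ ?_
    · rw [← add_assoc i]
      exact lie_mem_mul (ih m ha hu) hv
    · refine lie_mem_symm ?_
      rw [show i + (i' + j') = i + j' + i' by abel, show m + (n + 1) + 1 = m + 1 + n + 1 by omega]
      exact ih (m + 1) (lie_mem_mul ha hv) hu

/-- A factor of a monomial: (weight - 1, degree, element). -/
abbrev Entry (p : ℕ) (L : Type*) := ℕ × ZMod p × L

/-- Left-normed monomial. -/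
def fold (a : L) (l : List (Entry p L)) : L := l.foldl (fun u e => ⁅u, e.2.2⁆) a

/-- Total weight. -/
def weight (l : List (Entry p L)) : ℕ := (l.map fun e => e.1 + 1).sum

/-- Total degree. -/
def deg (l : List (Entry p L)) : ZMod p := (l.map fun e => e.2.1).sum

/-- All entries lie where they should. -/
def Good (C : ZMod p → AddSubgroup L) (l : List (Entry p L)) : Prop :=
  ∀ e ∈ l, e.2.2 ∈ lower C e.1 e.2.1

theorem fold_cons (a : L) (e : Entry p L) (l : List (Entry p L)) :
    fold a (e :: l) = fold ⁅a, e.2.2⁆ l := rfl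

theorem fold_append (a : L) (l l' : List (Entry p L)) : fold a (l ++ l') = fold (fold a l) l' :=
  List.foldl_append

theorem fold_sub : ∀ (l : List (Entry p L)) (a b : L), fold (a - b) l = fold a l - fold b l
  | [], _, _ => rfl
  | e :: l, a, b => by rw [fold_cons, fold_cons, fold_cons, sub_lie, fold_sub l]

theorem fold_zero_left : ∀ l : List (Entry p L), fold (0 : L) l = 0
  | [] => rfl
  | e :: l => by rw [fold_cons, zero_lie, fold_zero_left l]

theorem fold_add (l : List (Entry p L)) (a b : L) : fold (a + b) l = fold a l + fold b l := by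
  have h := fold_sub l (a + b) b
  rw [add_sub_cancel_right] at h
  rw [h, sub_add_cancel]

include hC in
theorem fold_mem : ∀ (s : ℕ) (l : List (Entry p L)), Good C l → ∀ {i : ZMod p} {a : L}, a ∈ der C s i →
    fold a l ∈ der C s (i + deg l)
  | s, [], _, i, a, ha => by simpa [fold, deg] using ha
  | s, e :: l, hl, i, a, ha => by
    rw [fold_cons, deg, List.map_cons, List.sum_cons, ← add_assoc]
    exact fold_mem s l (fun e' he' => hl e' (List.mem_cons_of_mem _ he'))
      (lie_mem_der hC s ha (lower_le hC _ _ (hl e List.mem_cons_self)))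

/-- The degrees of sublists cover everything once there are enough nonzero degrees. -/
theorem exists_sublist_deg : ∀ (l : List (Entry p L)), (∀ e ∈ l, e.2.1 ≠ 0) →
    ∃ S : Finset (ZMod p), 0 ∈ S ∧ min p (l.length + 1) ≤ S.card ∧
      ∀ t ∈ S, ∃ l', l'.Sublist l ∧ deg l' = t := by
  classical
  intro l
  induction l with
  | nil =>
    intro _
    exact ⟨{0}, Finset.mem_singleton_self _, by simp, fun t ht => ⟨[], List.Sublist.refl _, by
      rw [Finset.mem_singleton] at ht; rw [ht]; rfl⟩⟩
  | cons e l ih =>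
    intro hl
    obtain ⟨S, h0, hS, hsub⟩ := ih fun e' he' => hl e' (List.mem_cons_of_mem _ he')
    refine ⟨S ∪ S.image (fun t => e.2.1 + t), Finset.mem_union_left _ h0, ?_, ?_⟩
    · by_cases hsame : S.image (fun t => e.2.1 + t) ⊆ S
      · have hall : ∀ n : ℕ, (n : ZMod p) * e.2.1 ∈ S := by
          intro n
          induction n with
          | zero => simpa using h0
          | succ n ihn =>
            have := hsame (Finset.mem_image_of_mem _ ihn)
            rwa [Nat.cast_succ, add_mul, one_mul, add_comm]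
        have hSu : S = Finset.univ := Finset.eq_univ_iff_forall.2 fun t => by
          have := hall (t / e.2.1).val
          rwa [ZMod.natCast_zmod_val, div_mul_cancel₀ _ (hl e List.mem_cons_self)] at this
        rw [hSu, Finset.eq_univ_iff_forall.2 (fun t => Finset.mem_union_left _ (Finset.mem_univ t)), Finset.card_univ, ZMod.card]
        exact min_le_left _ _
      · have hlt : S.card < (S ∪ S.image (fun t => e.2.1 + t)).card :=
          Finset.card_lt_card (Finset.ssubset_iff_subset_ne.2 ⟨Finset.subset_union_left, fun h =>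
            hsame (Finset.subset_union_right.trans_eq h.symm)⟩)
        simp only [List.length_cons]
        omega
    · intro t ht
      rcases Finset.mem_union.1 ht with h | h
      · obtain ⟨l', hl', hd⟩ := hsub t h
        exact ⟨l', hl'.cons _, hd⟩
      · obtain ⟨u, hu, rfl⟩ := Finset.mem_image.1 h
        obtain ⟨l', hl', hd⟩ := hsub u hu
        exact ⟨e :: l', hl'.cons_cons _, by rw [← hd]; rfl⟩

include hC in
/-- Monomials are symmetric modulo shorter ones. -/
theorem fold_perm (s : ℕ) (d : ZMod p) (a : L) (J : AddSubgroup L) {n W : ℕ} {D : ZMod p}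
    (ha : a ∈ der C s d)
    (hsmall : ∀ l : List (Entry p L), Good C l → l.length < n → weight l = W → deg l = D →
      fold a l ∈ J)
    {l₁ l₂ : List (Entry p L)} (h : l₁.Perm l₂) :
    ∀ pre, Good C (pre ++ l₁) → (pre ++ l₁).length = n → weight (pre ++ l₁) = W →
      deg (pre ++ l₁) = D → fold a (pre ++ l₁) - fold a (pre ++ l₂) ∈ J := by
  induction h with
  | nil => intros; rw [sub_self]; exact zero_mem _
  | @cons x t₁ t₂ _ ih =>
    intro pre
    rw [← List.singleton_append (l := t₁), ← List.singleton_append (l := t₂), ← List.append_assoc,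
      ← List.append_assoc]
    exact ih (pre ++ [x])
  | @swap x y t =>
    intro pre hg hn hW hD
    have hx := hg x (by simp)
    have hy := hg y (by simp)
    let z : Entry p L := (y.1 + x.1 + 1, y.2.1 + x.2.1, ⁅y.2.2, x.2.2⁆)
    have h1 : fold a (pre ++ y :: x :: t) - fold a (pre ++ x :: y :: t) = fold a (pre ++ z :: t) := by
      rw [fold_append, fold_append, fold_append, fold_cons, fold_cons, fold_cons, fold_cons, fold_cons,
        ← fold_sub]
      congr 1
      change _ = ⁅fold a pre, ⁅y.2.2, x.2.2⁆⁆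
      rw [leibniz_lie (fold a pre), ← lie_skew y.2.2, sub_eq_add_neg]
    rw [h1]
    refine hsmall _ ?_ ?_ ?_ ?_
    · intro e he
      simp only [List.mem_append, List.mem_cons] at he
      rcases he with he | rfl | he
      · exact hg e (by simp [he])
      · exact lie_mem_lower _ _ hy hx
      · exact hg e (by simp [he])
    · rw [← hn]; simp only [List.length_append, List.length_cons]; omega
    · rw [← hW]; simp only [weight, List.map_append, List.map_cons, List.sum_append, List.sum_cons, z]
      omega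
    · rw [← hD]; simp only [deg, List.map_append, List.map_cons, List.sum_append, List.sum_cons, z]
      abel
  | @trans t₁ t₂ t₃ h₁ _ ih₁ ih₂ =>
    intro pre hg hn hW hD
    have hp' : (pre ++ t₁).Perm (pre ++ t₂) := h₁.append_left pre
    have hA := ih₁ pre hg hn hW hD
    have hB := ih₂ pre (fun e he => hg e (hp'.mem_iff.2 he)) (hp'.length_eq.symm.trans hn)
      ((hp'.map _).sum_eq.symm.trans hW) ((hp'.map _).sum_eq.symm.trans hD)
    have := add_mem hA hB
    rwa [sub_add_sub_cancel] at this

include hC in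
/-- Long monomials starting in the `s`-th derived ring lie in the next one. -/
theorem fold_mem_succ (hC0 : C 0 = ⊥) {s c : ℕ} (hc : ∀ i, lower C c i ≤ der C s i) :
    ∀ (n : ℕ) (l : List (Entry p L)), l.length = n → Good C l → c * (p - 2) < weight l →
      ∀ (d : ZMod p) (a : L), a ∈ der C s d → fold a l ∈ der C (s + 1) (d + deg l) := by
  intro n
  induction n using Nat.strong_induction_on with
  | _ n ih =>
    intro l hn hl hW d a ha
    by_cases hbig : ∃ e ∈ l, c ≤ e.1
    · obtain ⟨e, he, hce⟩ := hbig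
      obtain ⟨l₁, l₂, rfl⟩ := List.append_of_mem he
      have hed := hc _ (lower_antitone hC hce _ (hl e (by simp)))
      have h1 := fold_mem hC s l₁ (fun e' he' => hl e' (by simp [he'])) ha
      have h2 : ⁅fold a l₁, e.2.2⁆ ∈ der C (s + 1) (d + deg l₁ + e.2.1) := by
        rw [der_succ]; exact lie_mem_mul h1 hed
      have h3 := fold_mem hC (s + 1) l₂ (fun e' he' => hl e' (by simp [he'])) h2
      rw [fold_append, fold_cons]
      convert h3 using 2
      simp only [deg, List.map_append, List.map_cons, List.sum_append, List.sum_cons]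
      abel
    push Not at hbig
    have hlen : p - 1 ≤ l.length := by
      by_contra hlt
      have hle : ∀ t ∈ l.map (fun e => e.1 + 1), t ≤ c := by
        intro t ht
        obtain ⟨e, he, rfl⟩ := List.mem_map.1 ht
        exact hbig e he
      have h1 := List.sum_le_card_nsmul _ c hle
      rw [List.length_map, smul_eq_mul] at h1
      have h2 : l.length * c ≤ (p - 2) * c := Nat.mul_le_mul_right c (by omega)
      rw [weight] at hW
      rw [Nat.mul_comm c] at hW
      omega
    by_cases hzero : ∃ e ∈ l, e.2.1 = 0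
    · obtain ⟨e, he, he0⟩ := hzero
      obtain ⟨l₁, l₂, rfl⟩ := List.append_of_mem he
      have h := lower_le hC _ _ (hl e (by simp))
      rw [he0, hC0, AddSubgroup.mem_bot] at h
      rw [fold_append, fold_cons, h, lie_zero, fold_zero_left]
      exact zero_mem _
    push Not at hzero
    obtain ⟨S, -, hS, hsub⟩ := exists_sublist_deg l hzero
    have hSu : S = Finset.univ := Finset.eq_univ_of_card S (by
      have := S.card_le_univ
      rw [ZMod.card] at this ⊢
      omega)
    obtain ⟨l', hl', hd⟩ := hsub (-d) (hSu ▸ Finset.mem_univ _)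
    obtain ⟨r, hr⟩ := hl'.exists_perm_append
    have h1 := fold_perm hC s d a (der C (s + 1) (d + deg l)) (n := n) (W := weight l) (D := deg l) ha
      (fun l'' hg hlt hW' hD => hD ▸ ih l''.length hlt l'' rfl hg (hW' ▸ hW) d a ha) hr []
      hl hn rfl rfl
    rw [List.nil_append, List.nil_append, fold_append] at h1
    have h2 : fold a l' = 0 := by
      have h := fold_mem hC s l' (fun e he => hl e (hl'.subset he)) ha
      rw [hd, add_neg_cancel] at h
      have h0 := der_le hC s 0 h
      rwa [hC0, AddSubgroup.mem_bot] at h0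
    rwa [h2, fold_zero_left, sub_zero] at h1

include hC in
theorem lower_le_der_succ (hC0 : C 0 = ⊥) {s c : ℕ} (hc : ∀ i, lower C c i ≤ der C s i) :
    ∀ (t : ℕ) (l : List (Entry p L)), Good C l → c * (p - 2) < t + weight l →
      ∀ (i : ZMod p) (x : L), x ∈ lower C (c + t) i → fold x l ∈ der C (s + 1) (i + deg l) := by
  intro t
  induction t with
  | zero =>
    intro l hl hW i x hx
    exact fold_mem_succ hC hC0 hc l.length l rfl hl (by omega) i x (hc i hx)
  | succ t ih =>
    intro l hl hW i x hx
    let F : L →+ L := AddMonoidHom.mk' (fun x => fold x l) (fold_add l)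
    suffices h : lower C (c + (t + 1)) i ≤ (der C (s + 1) (i + deg l)).comap F from h hx
    refine mul_le fun i' j e u hu v hv => ?_
    let en : Entry p L := (0, j, v)
    have h1 := ih (en :: l) (fun e' he' => by
        rcases List.mem_cons.1 he' with rfl | he'
        · exact hv
        · exact hl e' he')
      (by simp only [weight, List.map_cons, List.sum_cons, en] at *; omega) i' u hu
    change fold ⁅u, v⁆ l ∈ der C (s + 1) (i + deg l)
    rw [fold_cons] at h1
    convert h1 using 2
    simp only [deg, List.map_cons, List.sum_cons, en, ← e]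
    abel

/-- `1 + (p-1) + ... + (p-1)^(s-1)`. -/
def xi (p s : ℕ) : ℕ := Finset.sum (Finset.range s) fun i => (p - 1) ^ i

include hC in
theorem lower_xi_le (hC0 : C 0 = ⊥) : ∀ (s : ℕ) (i : ZMod p), lower C (xi p s) i ≤ der C s i := by
  intro s
  induction s with
  | zero => intro i; exact le_rfl
  | succ s ih =>
    intro i x hx
    have he : xi p (s + 1) = xi p s + (xi p s * (p - 2) + 1) := by
      obtain ⟨q, rfl⟩ : ∃ q, p = q + 2 := ⟨p - 2, by have := hp.out.two_le; omega⟩
      unfold xi
      rw [geom_sum_succ, Nat.add_sub_cancel, show q + 2 - 1 = q + 1 by omega]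
      ring
    rw [he] at hx
    have h := lower_le_der_succ hC hC0 ih (xi p s * (p - 2) + 1) [] (fun e he => by simp at he)
      (by simp [weight]) i x hx
    simpa [fold, deg] using h

include hC in
/-- **Kostrikin-Kreknin**: the class bound. -/
theorem lower_eq_bot (hC0 : C 0 = ⊥) (i : ZMod p) : lower C (xi p (2 ^ (p - 1) - 1)) i = ⊥ :=
  le_bot_iff.1 ((lower_xi_le hC hC0 _ i).trans (kreknin hC hC0 i).le)

theorem three_cases : ∀ x y k : ZMod 3, x = 0 ∨ y = 0 ∨ k = 0 ∨ x + y = 0 ∨ x + y + k = 0 ∨
    (y + k = 0 ∧ x + k = 0) := by decide +kernel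

include hC in
/-- For `p = 3` the class is at most 2. -/
theorem lower_two_eq_bot (hp3 : p = 3) (hC0 : C 0 = ⊥) (i : ZMod p) : lower C 2 i = ⊥ := by
  subst hp3
  refine le_bot_iff.1 (mul_le fun i' k e u hu w hw => ?_)
  suffices h : lower C 1 i' ≤ (⊥ : AddSubgroup L).comap (lieR w) from h hu
  refine mul_le fun x y e' a ha b hb => ?_
  change ⁅⁅a, b⁆, w⁆ ∈ (⊥ : AddSubgroup L)
  have zero : ∀ {t : ZMod 3} {u : L}, t = 0 → u ∈ C t → u = 0 := by
    intro t u ht hu; rwa [ht, hC0, AddSubgroup.mem_bot] at hu
  rw [AddSubgroup.mem_bot]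
  rcases three_cases x y k with h | h | h | h | h | ⟨h1, h2⟩
  · rw [zero h ha, zero_lie, zero_lie]
  · rw [zero h hb, lie_zero, zero_lie]
  · rw [zero h hw, lie_zero]
  · rw [zero h (hC.lie_mem ha hb), zero_lie]
  · exact zero h (hC.lie_mem (hC.lie_mem ha hb) hw)
  · rw [lie_lie, zero h1 (hC.lie_mem hb hw), zero h2 (hC.lie_mem ha hw), lie_zero, lie_zero, sub_zero]

end Cfsg.Agent.Lib.Kreknin
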