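import Cfsg.Agent.Lib.Kreknin.Assoc

/-!
# Higman's theorem with an almost regular automorphism

`pow_mem_gam_succ`: if `α ^ p = 1` and every `α`-fixed point of every factor of the lower central
series is killed by `p ^ n`, then `g ^ p ^ E ∈ γ_{h+2}` for `g ∈ γ_{h+1}`.
-/

set_option autoImplicit false

open scoped TensorProduct DirectSum commutatorElement

namespace Cfsg.Agent.Lib.Kreknin

section Scale

variable {L : Type*} [LieRing L] {p : ℕ}

/-- Multiplication by `q`. -/
def scale (L : Type*) [LieRing L] (q : ℕ) : L →+ L :=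
  AddMonoidHom.mk' (fun x => q • x) fun a b => smul_add q a b

@[simp] theorem scale_apply (q : ℕ) (x : L) : scale L q x = q • x := rfl

theorem smul_mem_lower_scale (C : ZMod p → AddSubgroup L) (q : ℕ) : ∀ (k : ℕ) {i : ZMod p} {x : L},
    x ∈ lower C k i → q ^ (k + 1) • x ∈ lower (fun j => (C j).map (scale L q)) k i := by
  intro k
  induction k with
  | zero => intro i x hx; exact ⟨x, hx, by simp⟩
  | succ k ih =>
    intro i x hx
    suffices h : lower C (k + 1) i ≤
        (lower (fun j => (C j).map (scale L q)) (k + 1) i).comap (scale L (q ^ (k + 1 + 1))) from h hx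
    refine mul_le fun i' j e a ha b hb => ?_
    rw [AddSubgroup.mem_comap, scale_apply]
    have h2 : q ^ (k + 1 + 1) • ⁅a, b⁆ = ⁅q ^ (k + 1) • a, q • b⁆ := by
      rw [lie_nsmul, nsmul_lie, smul_smul, ← pow_succ']
    rw [h2, ← e]
    exact lie_mem_mul (ih ha) ⟨b, hb, rfl⟩

theorem isGraded_scale {C : ZMod p → AddSubgroup L} (hC : IsGraded C) (q : ℕ) :
    IsGraded fun j => (C j).map (scale L q) := fun i j => brk_le fun x hx y hy => by
  obtain ⟨a, ha, rfl⟩ := hx
  obtain ⟨b, hb, rfl⟩ := hy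
  refine ⟨q • ⁅a, b⁆, nsmul_mem (hC.lie_mem ha hb) q, ?_⟩
  simp only [scale_apply, lie_nsmul, nsmul_lie]

variable [hp : Fact p.Prime]

/-- A zero component killed by `q` kills the class by a power of `q`. -/
theorem smul_lower_eq_zero {C : ZMod p → AddSubgroup L} (hC : IsGraded C) {q : ℕ}
    (hC0 : ∀ x ∈ C 0, q • x = 0) {i : ZMod p} {x : L}
    (hx : x ∈ lower C (xi p (2 ^ (p - 1) - 1)) i) :
    q ^ (xi p (2 ^ (p - 1) - 1) + 1) • x = 0 := by
  have h := smul_mem_lower_scale C q _ hx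
  rwa [lower_eq_bot (isGraded_scale hC q) (by
    rw [eq_bot_iff]
    rintro _ ⟨y, hy, rfl⟩
    simp [hC0 y hy]), AddSubgroup.mem_bot] at h

theorem smul_mem_iSup_lower {C : ZMod p → AddSubgroup L} {q : ℕ} (hC : ∀ x, q • x ∈ ⨆ i, C i) :
    ∀ (k : ℕ) {x : L}, x ∈ lowerAll L k → q ^ (k + 1) • x ∈ ⨆ i, lower C k i := by
  intro k
  induction k with
  | zero => intro x _; rw [zero_add, pow_one]; exact hC x
  | succ k ih =>
    intro x hx
    suffices h : lowerAll L (k + 1) ≤
        (⨆ i, lower C (k + 1) i).comap (scale L (q ^ (k + 1 + 1))) from h hx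
    refine brk_le fun a ha b _ => ?_
    rw [AddSubgroup.mem_comap, scale_apply]
    have h2 : q ^ (k + 1 + 1) • ⁅a, b⁆ = ⁅q ^ (k + 1) • a, q • b⁆ := by
      rw [lie_nsmul, nsmul_lie, smul_smul, ← pow_succ']
    rw [h2]
    suffices h : (⨆ i, C i) ≤ (⨆ i, lower C (k + 1) i).comap (lieL (q ^ (k + 1) • a)) from h (hC b)
    refine iSup_le fun j v hv => ?_
    suffices h : (⨆ i, lower C k i) ≤ (⨆ i, lower C (k + 1) i).comap (lieR v) from h (ih ha)
    refine iSup_le fun i u hu => ?_
    exact AddSubgroup.mem_iSup_of_mem (i + j) (lie_mem_mul hu hv)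

end Scale

variable {p : ℕ} [hp : Fact p.Prime]

theorem smul_lowerAll_aux {R : Type*} [CommRing R] [IsDomain R] (ω : R) (hω : ω ^ p = 1)
    (hω1 : ω ≠ 1) (ε : R →+ ℤ) (hε : ε 1 = 1) {L : Type*} [LieRing L]
    (a : L →+ L) (halie : ∀ x y, a ⁅x, y⁆ = ⁅a x, a y⁆) (hap : ∀ x, (⇑a)^[p] x = x) (n : ℕ)
    (hnorm : ∀ x, p ^ n • ∑ j ∈ Finset.range p, (⇑a)^[j] x = 0) {x : L}
    (hx : x ∈ lowerAll L (xi p (2 ^ (p - 1) - 1))) :
    p ^ ((n + 2) * (xi p (2 ^ (p - 1) - 1) + 1)) • x = 0 := by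
  classical
  letI : LieRing (R ⊗[ℤ] L) := LieAlgebra.ExtendScalars.instLieRing ℤ R L
  have lzero : ∀ x : R ⊗[ℤ] L, ⁅x, (0 : R ⊗[ℤ] L)⁆ = 0 := fun x => lie_zero x
  have ladd : ∀ x y z : R ⊗[ℤ] L, ⁅x, y + z⁆ = ⁅x, y⁆ + ⁅x, z⁆ := fun x y z => lie_add x y z
  let A : (R ⊗[ℤ] L) →ₗ[R] (R ⊗[ℤ] L) := a.toIntLinearMap.baseChange R
  have hAt : ∀ (r : R) (x : L), A (r ⊗ₜ x) = r ⊗ₜ a x := fun r x => LinearMap.baseChange_tmul (R := ℤ) (A := R) (f := a.toIntLinearMap) r x
  have hAlie : ∀ x y : R ⊗[ℤ] L, A ⁅x, y⁆ = ⁅A x, A y⁆ := by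
    intro x y
    induction x using TensorProduct.induction_on with
    | zero => simp
    | add x x' hx hx' => simp [hx, hx']
    | tmul r u =>
      induction y using TensorProduct.induction_on with
      | zero => simp only [map_zero, lzero]
      | add y y' hy hy' => simp only [map_add, ladd, hy, hy']
      | tmul s v => simp [hAt, halie]
  have hAit : ∀ (j : ℕ) (r : R) (x : L), (⇑A)^[j] (r ⊗ₜ x) = r ⊗ₜ (⇑a)^[j] x := by
    intro j
    induction j with
    | zero => intro r x; rfl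
    | succ j ih => intro r x; rw [Function.iterate_succ_apply', Function.iterate_succ_apply', ih, hAt]
  have hAp : ∀ x, (⇑A)^[p] x = x := by
    intro x
    induction x using TensorProduct.induction_on with
    | zero => exact iterate_map_zero A p
    | add x y hx hy => rw [iterate_map_add, hx, hy]
    | tmul r u => rw [hAit, hap]
  have hN : ∀ x, p ^ n • ∑ j ∈ Finset.range p, (⇑A)^[j] x = 0 := by
    intro x
    induction x using TensorProduct.induction_on with
    | zero => simp [iterate_map_zero]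
    | add x y hx hy => simp only [iterate_map_add, Finset.sum_add_distrib, smul_add, hx, hy, add_zero]
    | tmul r u =>
      simp only [hAit, ← TensorProduct.tmul_sum]
      rw [← natCast_zsmul, ← TensorProduct.tmul_smul, natCast_zsmul, hnorm, TensorProduct.tmul_zero]
  have hωmod : ∀ k : ℕ, ω ^ k = ω ^ (k % p) := by
    intro k
    conv_lhs => rw [← Nat.mod_add_div k p, pow_add, pow_mul, hω, one_pow, mul_one]
  let C : ZMod p → AddSubgroup (R ⊗[ℤ] L) := fun i =>
    (LinearMap.ker (A - ω ^ i.val • LinearMap.id)).toAddSubgroup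
  have hmemC : ∀ i x, x ∈ C i ↔ A x = ω ^ i.val • x := fun i x => by
    simp [C, LinearMap.mem_ker, sub_eq_zero]
  have hgr : IsGraded C := fun i j => brk_le fun x hx y hy => by
    rw [hmemC] at hx hy ⊢
    rw [hAlie, hx, hy]
    calc _ = ω ^ i.val • ⁅x, ω ^ j.val • y⁆ := smul_lie (ω ^ i.val) x (ω ^ j.val • y)
      _ = ω ^ i.val • (ω ^ j.val • ⁅x, y⁆) := congrArg _ (lie_smul (ω ^ j.val) x y)
      _ = _ := by rw [smul_smul, ← pow_add, hωmod (i.val + j.val), ZMod.val_add]
  have hC0 : ∀ x ∈ C 0, p ^ (n + 1) • x = 0 := by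
    intro x hx
    rw [hmemC, ZMod.val_zero, pow_zero, one_smul] at hx
    have h1 : ∀ j, (⇑A)^[j] x = x := fun j => Function.iterate_fixed hx j
    have h2 := hN x
    simp only [h1, Finset.sum_const, Finset.card_range] at h2
    rw [pow_succ, mul_smul]
    exact h2
  have hord : ∀ k : ℕ, k % p ≠ 0 → ω ^ k ≠ 1 := by
    intro k hk h
    have h1 : orderOf ω = p := orderOf_eq_prime hω hω1
    have h2 := orderOf_dvd_of_pow_eq_one h
    rw [h1] at h2
    exact hk (Nat.mod_eq_zero_of_dvd h2)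
  have hsum : ∀ x, p • x ∈ ⨆ i, C i := by
    intro x
    let e : ℕ → R ⊗[ℤ] L := fun i => ∑ j ∈ Finset.range p, ω ^ ((p - i) * j) • (⇑A)^[j] x
    have he : ∀ i < p, e i ∈ C (i : ZMod p) := by
      intro i hi
      rw [hmemC, ZMod.val_natCast, Nat.mod_eq_of_lt hi]
      simp only [e, map_sum, map_smul, Finset.smul_sum, smul_smul]
      have hfp : ω ^ i • (ω ^ ((p - i) * p) • (⇑A)^[p] x) = ω ^ i • (ω ^ ((p - i) * 0) • (⇑A)^[0] x) := by
        rw [hAp, mul_comm (p - i) p, pow_mul, hω, one_pow, mul_zero, pow_zero]; rfl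
      have hshift : ∀ j, ω ^ ((p - i) * j) • A ((⇑A)^[j] x) =
          ω ^ i • (ω ^ ((p - i) * (j + 1)) • (⇑A)^[j + 1] x) := by
        intro j
        rw [Function.iterate_succ_apply', smul_smul (ω ^ i), ← pow_add]
        congr 1
        rw [Nat.mul_succ, show i + ((p - i) * j + (p - i)) = (p - i) * j + p by omega, pow_add, hω,
          mul_one]
      rw [Finset.sum_congr rfl fun j _ => hshift j]
      have h := Finset.sum_range_succ' (fun j => ω ^ i • (ω ^ ((p - i) * j) • (⇑A)^[j] x)) p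
      rw [Finset.sum_range_succ, hfp] at h
      rw [← add_right_cancel h]
      simp only [smul_smul]
    have hpx : ∑ i ∈ Finset.range p, e i = p • x := by
      simp only [e]
      rw [Finset.sum_comm]
      simp only [← Finset.sum_smul]
      rw [Finset.sum_eq_single 0]
      · simp [Nat.cast_smul_eq_nsmul]
      · intro j hj hj0
        have hjp := Finset.mem_range.1 hj
        have hz : ω ^ j ≠ 1 := hord j (by rw [Nat.mod_eq_of_lt hjp]; exact hj0)
        set ζ := ω ^ j with hζ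
        have hζp : ζ ^ p = 1 := by rw [hζ, ← pow_mul, mul_comm, pow_mul, hω, one_pow]
        have hrefl : ∑ i ∈ Finset.range p, ω ^ ((p - i) * j) = ∑ i ∈ Finset.range p, ζ ^ (i + 1) := by
          rw [← Finset.sum_range_reflect]
          refine Finset.sum_congr rfl fun i hi => ?_
          have := Finset.mem_range.1 hi
          rw [hζ, ← pow_mul, mul_comm j]
          congr 2
          omega
        have hg : ∑ i ∈ Finset.range p, ζ ^ (i + 1) = 0 := by
          have h := geom_sum_mul ζ p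
          rw [hζp, sub_self] at h
          rcases mul_eq_zero.1 h with h | h
          · simp only [pow_succ, ← Finset.sum_mul, h, zero_mul]
          · exact absurd (sub_eq_zero.1 h) hz
        rw [hrefl, hg, zero_smul]
      · intro h; exact absurd (Finset.mem_range.2 hp.out.pos) h
    rw [← hpx]
    exact sum_mem fun i hi => AddSubgroup.mem_iSup_of_mem _ (he i (Finset.mem_range.1 hi))
  let ι : L →+ R ⊗[ℤ] L := (TensorProduct.mk ℤ R L 1).toAddMonoidHom
  have hι : ∀ x, ι x = (1 : R) ⊗ₜ x := fun x => rfl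
  have hle : ∀ k, lowerAll L k ≤ (lowerAll (R ⊗[ℤ] L) k).comap ι := by
    intro k
    induction k with
    | zero => exact le_top.trans (le_of_eq rfl)
    | succ k ih =>
      refine brk_le fun y hy z _ => ?_
      rw [AddSubgroup.mem_comap, hι]
      have h : ⁅ι y, ι z⁆ ∈ lowerAll (R ⊗[ℤ] L) (k + 1) :=
        lie_mem_brk (AddSubgroup.mem_comap.1 (ih hy)) (AddSubgroup.mem_top (ι z))
      have e : ⁅ι y, ι z⁆ = (1 : R) ⊗ₜ[ℤ] ⁅y, z⁆ := by
        calc ⁅ι y, ι z⁆ = ((1 : R) * 1) ⊗ₜ[ℤ] ⁅y, z⁆ :=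
              LieAlgebra.ExtendScalars.bracket_tmul ℤ R L L 1 1 y z
          _ = _ := by rw [one_mul]
      rwa [e] at h
  set h := xi p (2 ^ (p - 1) - 1)
  have hkill : (⨆ i, lower C h i) ≤ (scale (R ⊗[ℤ] L) ((p ^ (n + 1)) ^ (h + 1))).ker :=
    iSup_le fun i y hy => smul_lower_eq_zero hgr hC0 hy
  have h3 : (p ^ (n + 1)) ^ (h + 1) • (p ^ (h + 1) • ι x) = 0 :=
    hkill (smul_mem_iSup_lower hsum h (hle h hx))
  rw [smul_smul, ← pow_mul, ← pow_add, ← map_nsmul,
    show (n + 1) * (h + 1) + (h + 1) = (n + 2) * (h + 1) by ring, hι] at h3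
  have h4 := congrArg (TensorProduct.lift ((LinearMap.lsmul ℤ L).comp ε.toIntLinearMap)) h3
  simpa [hε] using h4

open Polynomial in
theorem smul_lowerAll {L : Type*} [LieRing L]
    (a : L →+ L) (halie : ∀ x y, a ⁅x, y⁆ = ⁅a x, a y⁆) (hap : ∀ x, (⇑a)^[p] x = x) (n : ℕ)
    (hnorm : ∀ x, p ^ n • ∑ j ∈ Finset.range p, (⇑a)^[j] x = 0) {x : L}
    (hx : x ∈ lowerAll L (xi p (2 ^ (p - 1) - 1))) :
    p ^ ((n + 2) * (xi p (2 ^ (p - 1) - 1) + 1)) • x = 0 := by
  set Φ := cyclotomic p ℤ with hΦ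
  have hmonic : Φ.Monic := cyclotomic.monic p ℤ
  have hirr : Irreducible Φ := cyclotomic.irreducible hp.out.pos
  haveI : IsDomain (AdjoinRoot Φ) := AdjoinRoot.isDomain_of_prime hirr.prime
  have hroot : (cyclotomic p (AdjoinRoot Φ)).IsRoot (AdjoinRoot.root Φ) := by
    have h := AdjoinRoot.isRoot_root Φ
    rwa [hΦ, map_cyclotomic] at h
  have hωp : (AdjoinRoot.root Φ) ^ p = 1 :=
    Polynomial.isRoot_of_unity_of_root_cyclotomic (Nat.mem_divisors_self p hp.out.pos.ne') hroot
  have hω1 : AdjoinRoot.root Φ ≠ 1 := by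
    intro h
    have h1 := AdjoinRoot.mk_eq_zero (f := Φ) (g := X - C 1)
    have h2 : AdjoinRoot.mk Φ (X - C 1) = 0 := by simp [h]
    have h3 := Polynomial.natDegree_le_of_dvd (h1.1 h2) (X_sub_C_ne_zero 1)
    rw [natDegree_X_sub_C, hΦ, natDegree_cyclotomic, Nat.totient_prime hp.out] at h3
    have hp2 : p = 2 := by have := hp.out.two_le; omega
    subst hp2
    obtain ⟨c, hc⟩ := h1.1 h2
    rw [hΦ, cyclotomic_two] at hc
    have hc1 := congrArg (Polynomial.eval (-1 : ℤ)) hc
    norm_num at hc1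
  let B := (AdjoinRoot.powerBasis' hmonic).basis
  have hdim : 0 < (AdjoinRoot.powerBasis' hmonic).dim := by
    rw [AdjoinRoot.powerBasis'_dim, hΦ, natDegree_cyclotomic]
    exact Nat.totient_pos.2 hp.out.pos
  have hB0 : B ⟨0, hdim⟩ = 1 := by simp [B, PowerBasis.basis_eq_pow]
  refine smul_lowerAll_aux (AdjoinRoot.root Φ) hωp hω1 (B.coord ⟨0, hdim⟩).toAddMonoidHom ?_ a halie
    hap n hnorm hx
  change B.coord ⟨0, hdim⟩ 1 = 1
  rw [← hB0]
  simp

variable {G : Type*} [Group G]

theorem mkL_pow {m : ℕ} {g : G} (hg : g ∈ gam G m) :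
    ∀ k : ℕ, mkL m (g ^ k) (pow_mem hg k) = k • mkL m g hg
  | 0 => by rw [zero_nsmul, mkL_eq_zero, pow_zero]; exact one_mem _
  | k + 1 => by
    rw [mkL_congr rfl (pow_succ g k), mkL_mul (pow_mem hg k) hg, mkL_pow hg k, succ_nsmul]

/-- The exponent of `γ_{h+1} / γ_{h+2}` is bounded. -/
theorem pow_mem_gam_succ [Finite G] (α : MulAut G) (hαp : α ^ p = 1) (n : ℕ)
    (hfix : ∀ m y, y ∈ gam G m → y⁻¹ * α y ∈ gam G (m + 1) → y ^ p ^ n ∈ gam G (m + 1))
    {g : G} (hg : g ∈ gam G (xi p (2 ^ (p - 1) - 1))) :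
    g ^ p ^ ((n + 2) * (xi p (2 ^ (p - 1) - 1) + 1)) ∈ gam G (xi p (2 ^ (p - 1) - 1) + 1) := by
  have hap : ∀ u : Assoc G, (⇑(assocMap α))^[p] u = u := by
    intro u
    induction u using DirectSum.induction_on with
    | zero => exact Function.iterate_fixed (map_zero _) p
    | of k y =>
      obtain ⟨y, rfl⟩ := Additive.ofMul.surjective y
      induction y using QuotientGroup.induction_on with | _ x =>
      change (⇑(assocMap α))^[p] (mkL k (x : G) x.2) = mkL k (x : G) x.2
      rw [assocMap_iterate]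
      exact mkL_congr rfl (by rw [hαp]; rfl) _
    | add u v hu hv => rw [iterate_map_add, hu, hv]
  have hnorm : ∀ u : Assoc G, p ^ n • ∑ j ∈ Finset.range p, (⇑(assocMap α))^[j] u = 0 := by
    intro u
    induction u using DirectSum.induction_on with
    | zero => simp [iterate_map_zero]
    | add u v hu hv => simp only [iterate_map_add, Finset.sum_add_distrib, smul_add, hu, hv, add_zero]
    | of k y =>
      obtain ⟨y, rfl⟩ := Additive.ofMul.surjective y
      induction y using QuotientGroup.induction_on with | _ x =>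
      change p ^ n • ∑ j ∈ Finset.range p, (⇑(assocMap α))^[j] (mkL k (x : G) x.2) = 0
      have hs : ∀ l, ∃ y : G, ∃ hy : y ∈ gam G k,
          mkL k y hy = ∑ j ∈ Finset.range l, (⇑(assocMap α))^[j] (mkL k x x.2) := by
        intro l
        induction l with
        | zero => exact ⟨1, one_mem _, mkL_one _⟩
        | succ l ih =>
          obtain ⟨y, hy, hyy⟩ := ih
          exact ⟨y * (α ^ l) x, mul_mem hy (map_gam_mem _ k x.2), by
            rw [mkL_mul hy (map_gam_mem _ k x.2), hyy, Finset.sum_range_succ, assocMap_iterate]⟩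
      obtain ⟨y, hy, hyy⟩ := hs p
      have hfix' : assocMap α (mkL k y hy) = mkL k y hy := by
        rw [hyy, map_sum]
        simp only [← Function.iterate_succ_apply' (⇑(assocMap α))]
        have h1 := Finset.sum_range_succ' (fun j => (⇑(assocMap α))^[j] (mkL k x x.2)) p
        have h2 := Finset.sum_range_succ (fun j => (⇑(assocMap α))^[j] (mkL k x x.2)) p
        rw [h2] at h1
        have hx := hap (mkL k x x.2)
        simp only [hx, Function.iterate_zero_apply] at h1
        exact (add_right_cancel h1).symm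
      rw [assocMap_mkL, eq_comm] at hfix'
      rw [← hyy, ← mkL_pow hy, mkL_eq_zero]
      refine hfix k y hy ?_
      rw [← mkL_eq_zero (mul_mem (inv_mem hy) (map_gam_mem α k hy)),
        mkL_mul (inv_mem hy) (map_gam_mem α k hy), mkL_inv hy, ← hfix', neg_add_cancel]
  have h := smul_lowerAll (assocMap α) (assocMap_lie α) hap n hnorm (mkL_mem_lowerAll _ hg)
  rwa [← mkL_pow hg, mkL_eq_zero] at h

end Cfsg.Agent.Lib.Kreknin
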